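/-
Coset enumeration certificate: the assembled result.
-/
import Cfsg.Agent.Lib.Spor.Fi22.CH.Part0
import Cfsg.Agent.Lib.Spor.Fi22.CH.Part1
import Cfsg.Agent.Lib.Spor.Fi22.CH.Part2
import Cfsg.Agent.Lib.Spor.Fi22.CH.Part3

namespace CfsgLib.Spor.Fi22.CH

open CfsgLib.Spor.TC

theorem steps_ok : cert.StepsOK 0 19013 :=
  ((((((steps0.append _ steps2812).append _ steps5632).append _ steps8441).append _ steps11269).append _ steps14113).append _ steps16915)

theorem rows_ok : cert.RowsOK 19013 3510 0 3510 :=
  (((rows0.append _ rows1143).append _ rows2286).append _ rows3429)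

theorem row_zero : cert.rowNode 0 = 0 := by decide +kernel

end CfsgLib.Spor.Fi22.CH
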